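import Groth.Agent.Lib.AntiAffFF5.Main
import Groth.Agent.Lib.EtSite.FpqcDescent
import Groth.Agent.Lib.Chev24.PerfChev
import Groth.Agent.S14604

/-!
# Structure of algebraic groups over finite fields
-/

set_option autoImplicit false
set_option linter.style.haveILetI false
set_option backward.isDefEq.respectTransparency false
set_option maxHeartbeats 1000000

universe u

open CategoryTheory CategoryTheory.Limits MonoidalCategory CartesianMonoidalCategory MonObj GrpObj
open AlgebraicGeometry

noncomputable section

namespace GrothLib.AntiAffFF5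

variable {k : Type u} [Field k]

/-- Over a finite field the linear part and an abelian subvariety generate. -/
theorem exists_abelian_mul [Finite k] {G N A : Over (Spec (CommRingCat.of k))} [GrpObj G] [GrpObj N] [GrpObj A]
    [LocallyOfFiniteType G.hom] [QuasiCompact G.hom] [ConnectedSpace G.left] (i : N ⟶ G) [IsMonHom i]
    [IsClosedImmersion i.left] [IsAffine N.left] [IsProper A.hom] (q : G ⟶ A) [IsMonHom q] [Surjective q.left]
    (hq : AlgGrp.IsKernel i q) :
    ∃ (M : Over (Spec (CommRingCat.of k))) (_ : GrpObj M) (j : M ⟶ G), IsMonHom j ∧ IsClosedImmersion j.left ∧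
      Smooth M.hom ∧ ConnectedSpace M.left ∧ IsProper M.hom ∧ Surjective ((i ⊗ₘ j) ≫ μ[G]).left := by
  obtain ⟨M, _, j, hj, hjc, hM, -, hmax, -⟩ := AntMax16.exists_ant G
  haveI := hj; haveI := hjc
  obtain ⟨hMlft, hMqc⟩ := AntMax16.props_of_mono j
  haveI := hMlft; haveI := hMqc
  refine ⟨M, inferInstance, j, hj, hjc, AntiAffSmooth14.smooth_of_isAntiAffine M hM, hM.connectedSpace,
    Groth.Agent.S14604.result k M hM, ?_⟩
  exact (AntMax16.ant_generates i q hq j hM fun K _ _ _ i' _ _ h => hmax K i' h).1

/-- An affine and a proper closed subscheme meet in a finite scheme. -/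
theorem isFinite_of_isPullback {G N B P : Over (Spec (CommRingCat.of k))} {i : N ⟶ G} {b : B ⟶ G}
    [IsClosedImmersion i.left] [IsClosedImmersion b.left] [IsAffine N.left] [IsProper B.hom]
    {p₁ : P ⟶ N} {p₂ : P ⟶ B} (h : IsPullback p₁ p₂ i b) : IsFinite P.hom := by
  have sq := h.map (Over.forget (Spec (CommRingCat.of k)))
  haveI : IsClosedImmersion p₁.left :=
    MorphismProperty.of_isPullback (P := @IsClosedImmersion) sq.flip ‹IsClosedImmersion b.left›
  haveI : IsClosedImmersion p₂.left :=
    MorphismProperty.of_isPullback (P := @IsClosedImmersion) sq ‹IsClosedImmersion i.left›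
  haveI : IsAffineHom N.hom := isAffineHom_of_isAffine _
  haveI : IsAffineHom P.hom := by rw [← Over.w p₁]; infer_instance
  haveI : IsProper P.hom := by rw [← Over.w p₂]; infer_instance
  exact IsFinite.iff_isProper_and_isAffineHom.2 ⟨inferInstance, inferInstance⟩

end GrothLib.AntiAffFF5
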